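import Mathlib

/-! Signs of finitely many integral combinations in an ordered group are realised by integers. -/

namespace Groth.Agent.OrdSigns

theorem exists_between_finsets {α : Type*} [Field α] [LinearOrder α] [IsStrictOrderedRing α] (A B : Finset α)
    (h : ∀ a ∈ A, ∀ b ∈ B, a < b) : ∃ x, (∀ a ∈ A, a < x) ∧ ∀ b ∈ B, x < b := by
  rcases A.eq_empty_or_nonempty with rfl | hA
  · rcases B.eq_empty_or_nonempty with rfl | hB
    · exact ⟨0, by simp, by simp⟩
    · exact ⟨B.min' hB - 1, by simp, fun b hb => (sub_one_lt _).trans_le (B.min'_le b hb)⟩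
  · rcases B.eq_empty_or_nonempty with rfl | hB
    · exact ⟨A.max' hA + 1, fun a ha => (A.le_max' a ha).trans_lt (lt_add_one _), by simp⟩
    · obtain ⟨x, h1, h2⟩ := exists_between (h _ (A.max'_mem hA) _ (B.min'_mem hB))
      exact ⟨x, fun a ha => (A.le_max' a ha).trans_lt h1, fun b hb => h2.trans_le (B.min'_le b hb)⟩

theorem exists_pos {Λ : Type*} [AddCommGroup Λ] [LinearOrder Λ] [IsOrderedAddMonoid Λ] :
    ∀ (n : ℕ) (χ : Fin n → Λ) (Φ : Finset (Fin n → ℤ)), (∀ a ∈ Φ, 0 < ∑ i, a i • χ i) →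
      ∃ r : Fin n → ℤ, ∀ a ∈ Φ, 0 < ∑ i, a i * r i
  | 0, χ, Φ, h => ⟨0, fun a ha => absurd (h a ha) (by simp)⟩
  | n + 1, χ, Φ, h => by
    classical
    let w : (Fin (n + 1) → ℤ) → Fin n → ℤ := fun a i => a i.castSucc
    let l : (Fin (n + 1) → ℤ) → ℤ := fun a => a (Fin.last n)
    let Φ' : Finset (Fin n → ℤ) := (Φ.filter fun a => l a = 0).image w ∪
      ((Φ.filter fun a => 0 < l a) ×ˢ (Φ.filter fun a => l a < 0)).image fun pq => (-l pq.2) • w pq.1 + l pq.1 • w pq.2
    have hs : ∀ a, ∑ i, a i • χ i = (∑ i, w a i • χ i.castSucc) + l a • χ (Fin.last n) := fun a =>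
      Fin.sum_univ_castSucc _
    have hΦ' : ∀ a ∈ Φ', 0 < ∑ i, a i • χ i.castSucc := by
      intro a ha
      rcases Finset.mem_union.1 ha with ha | ha
      · obtain ⟨b, hb, rfl⟩ := Finset.mem_image.1 ha
        rw [Finset.mem_filter] at hb
        have := h b hb.1
        rwa [hs, hb.2, zero_smul, add_zero] at this
      · obtain ⟨⟨p, q⟩, hpq, rfl⟩ := Finset.mem_image.1 ha
        simp only [Finset.mem_product, Finset.mem_filter] at hpq
        obtain ⟨⟨hp, hp'⟩, ⟨hq, hq'⟩⟩ := hpq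
        have h1 := zsmul_pos (h p hp) (n := -l q) (by omega)
        have h2 := zsmul_pos (h q hq) (n := l p) hp'
        have h3 := add_pos h1 h2
        have e : ∑ i, ((-l q) • w p + l p • w q) i • χ i.castSucc =
            (-l q) • (∑ i, w p i • χ i.castSucc) + l p • (∑ i, w q i • χ i.castSucc) := by
          simp [add_smul, mul_smul, Finset.smul_sum, Finset.sum_add_distrib]
        rw [e]
        rw [hs, hs, smul_add, smul_add, smul_smul, smul_smul] at h3
        have e2 : ((-l q) * l p) • χ (Fin.last n) + (l p * l q) • χ (Fin.last n) = 0 := by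
          rw [← add_smul, show -l q * l p + l p * l q = 0 by ring, zero_smul]
        rwa [add_add_add_comm, e2, add_zero] at h3
    obtain ⟨r', hr'⟩ := exists_pos n (fun i => χ i.castSucc) Φ' hΦ'
    let v : (Fin (n + 1) → ℤ) → ℤ := fun a => ∑ i, w a i * r' i
    let f : (Fin (n + 1) → ℤ) → ℚ := fun a => -(v a : ℚ) / (l a : ℚ)
    have hlt : ∀ a ∈ (Φ.filter fun a => 0 < l a).image f, ∀ b ∈ (Φ.filter fun a => l a < 0).image f, a < b := by
      intro a ha b hb
      obtain ⟨p, hp, rfl⟩ := Finset.mem_image.1 ha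
      obtain ⟨q, hq, rfl⟩ := Finset.mem_image.1 hb
      have hk := hr' _ (Finset.mem_union_right _ (Finset.mem_image.2 ⟨(p, q), Finset.mem_product.2 ⟨hp, hq⟩, rfl⟩))
      rw [Finset.mem_filter] at hp hq
      have hk' : 0 < -l q * v p + l p * v q := by
        refine hk.trans_eq ?_
        simp [v, Finset.mul_sum, add_mul, mul_assoc, Finset.sum_add_distrib]
      have hp1 : (0 : ℚ) < l p := by exact_mod_cast hp.2
      have hq1 : (l q : ℚ) < 0 := by exact_mod_cast hq.2
      have hk'' : (0 : ℚ) < -(l q : ℚ) * v p + l p * v q := by exact_mod_cast hk'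
      have e : f q - f p = (-(l q : ℚ) * v p + l p * v q) / (l p * (-(l q : ℚ))) := by
        have := hp1.ne'
        have := hq1.ne
        simp only [f]
        field_simp
        ring
      have : 0 < f q - f p := by rw [e]; exact div_pos hk'' (mul_pos hp1 (by linarith))
      linarith
    obtain ⟨x, hx1, hx2⟩ := exists_between_finsets _ _ hlt
    refine ⟨Fin.snoc (fun i => (x.den : ℤ) * r' i) x.num, fun a ha => ?_⟩
    have e : ∑ i, a i * (Fin.snoc (fun i => (x.den : ℤ) * r' i) x.num : Fin (n + 1) → ℤ) i =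
        (x.den : ℤ) * v a + l a * x.num := by
      rw [Fin.sum_univ_castSucc]
      simp [v, w, l, Finset.mul_sum, mul_left_comm]
    rw [e]
    have hd : (0 : ℚ) < (x.den : ℚ) := by exact_mod_cast x.den_pos
    have hnum : (x.num : ℚ) = x * (x.den : ℚ) := (Rat.mul_den_eq_num x).symm
    suffices h0 : (0 : ℚ) < (v a : ℚ) + l a * x by
      have h1 : (0 : ℚ) < (x.den : ℚ) * v a + l a * x.num := by
        rw [hnum]
        have := mul_pos hd h0
        linarith
      exact_mod_cast h1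
    rcases lt_trichotomy (l a) 0 with hla | hla | hla
    · have := hx2 _ (Finset.mem_image.2 ⟨a, Finset.mem_filter.2 ⟨ha, hla⟩, rfl⟩)
      rw [lt_div_iff_of_neg (by exact_mod_cast hla)] at this
      linarith
    · have := hr' _ (Finset.mem_union_left _ (Finset.mem_image.2 ⟨a, Finset.mem_filter.2 ⟨ha, hla⟩, rfl⟩))
      rw [hla]
      have h' : (0 : ℚ) < v a := by exact_mod_cast this
      simpa using h'
    · have := hx1 _ (Finset.mem_image.2 ⟨a, Finset.mem_filter.2 ⟨ha, hla⟩, rfl⟩)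
      rw [div_lt_iff₀ (by exact_mod_cast hla)] at this
      linarith

theorem exists_signs {Λ : Type*} [AddCommGroup Λ] [LinearOrder Λ] [IsOrderedAddMonoid Λ]
    (n : ℕ) (χ : Fin n → Λ) (Φ : Finset (Fin n → ℤ)) :
    ∃ r : Fin n → ℤ, ∀ a ∈ Φ,
      (0 < ∑ i, a i • χ i ↔ 0 < ∑ i, a i * r i) ∧
        (∑ i, a i • χ i = 0 ↔ ∑ i, a i * r i = 0) := by
  classical
  let G := Submodule.span ℤ (Set.range χ)
  have : Module.Finite ℤ G := Module.Finite.span_of_finite ℤ (Set.finite_range χ)
  have : Module.Free ℤ G := Module.free_of_finite_type_torsion_free'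
  let b := Module.finBasis ℤ G
  let g : Fin n → G := fun i => ⟨χ i, Submodule.subset_span ⟨i, rfl⟩⟩
  let T : (Fin n → ℤ) → Fin (Module.finrank ℤ G) → ℤ := fun a => ⇑(b.repr (∑ i, a i • g i))
  have hT : ∀ a, ∑ j, T a j • (b j : Λ) = ∑ i, a i • χ i := fun a => by
    have := congrArg (Subtype.val) (b.sum_repr (∑ i, a i • g i))
    simpa [g, T] using this
  let S : Finset (Fin (Module.finrank ℤ G) → ℤ) :=
    ((Φ.filter fun a => 0 < ∑ i, a i • χ i).image T) ∪ ((Φ.filter fun a => ∑ i, a i • χ i < 0).image fun a => -T a)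
  obtain ⟨s, hs⟩ := exists_pos _ (fun j => (b j : Λ)) S (fun c hc => by
    rcases Finset.mem_union.1 hc with hc | hc <;> obtain ⟨a, ha, rfl⟩ := Finset.mem_image.1 hc <;>
      rw [Finset.mem_filter] at ha
    · rw [hT]; exact ha.2
    · simp only [Pi.neg_apply, neg_smul, Finset.sum_neg_distrib, hT]
      exact neg_pos.2 ha.2)
  refine ⟨fun i => ∑ j, b.repr (g i) j * s j, fun a ha => ?_⟩
  have e : ∑ i, a i * ∑ j, b.repr (g i) j * s j = ∑ j, T a j * s j := by
    simp only [T, map_sum, map_smul, Finsupp.coe_finsetSum, Finset.sum_apply, Finsupp.coe_smul, Pi.smul_apply,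
      smul_eq_mul, Finset.mul_sum, Finset.sum_mul, mul_assoc]
    exact Finset.sum_comm
  rw [e]
  rcases lt_trichotomy (∑ i, a i • χ i) 0 with h | h | h
  · have := hs _ (Finset.mem_union_right _ (Finset.mem_image.2 ⟨a, Finset.mem_filter.2 ⟨ha, h⟩, rfl⟩))
    simp only [Pi.neg_apply, neg_mul, Finset.sum_neg_distrib] at this
    exact ⟨⟨fun h' => absurd h' h.le.not_gt, fun h' => absurd h' (by omega)⟩,
      ⟨fun h' => absurd h' h.ne, fun h' => absurd h' (by omega)⟩⟩
  · have h0 : ∑ i, a i • g i = 0 := Subtype.ext (by simpa [g] using h)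
    have hT0 : ∑ j, T a j * s j = 0 := by simp only [T]; rw [h0]; simp
    exact ⟨⟨fun h' => absurd h' h.not_gt, fun h' => absurd h' (by omega)⟩, ⟨fun _ => hT0, fun _ => h⟩⟩
  · have := hs _ (Finset.mem_union_left _ (Finset.mem_image.2 ⟨a, Finset.mem_filter.2 ⟨ha, h⟩, rfl⟩))
    exact ⟨⟨fun _ => this, fun _ => h⟩, ⟨fun h' => absurd h' h.ne', fun h' => absurd h' (by omega)⟩⟩

end Groth.Agent.OrdSigns
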